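import Groth.Prelude.Def_W4c5qllcourbesmultMultCrv
import Mathlib.Algebra.Polynomial.Div
import Mathlib.Algebra.Polynomial.Basic
import Mathlib.LinearAlgebra.FreeModule.PID
import Mathlib.RingTheory.DiscreteValuationRing.Basic
import Mathlib.RingTheory.Finiteness.Basic
import Mathlib.RingTheory.Polynomial.Basic

/-!
# The ring `R[X]/(X^n)`: coefficient functionals and the duality `Hom_A(M,A) ≃ Hom_R(M,R)`
-/

open Polynomial

universe u

namespace Groth.Agent.MultCrvLib

variable {R : Type u} [CommRing R] {n : ℕ}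

/-- The `k`-th coefficient of an element of `R[X]/(X^n)`, for `k < n`. -/
noncomputable def coef (k : ℕ) (hk : k < n) : MultCrv.Rn R n →ₗ[R] R :=
  (Submodule.liftQ ((Ideal.span {(X : R[X]) ^ n}).restrictScalars R) (Polynomial.lcoeff R k) (by
    intro p hp
    rw [Submodule.restrictScalars_mem, Ideal.mem_span_singleton] at hp
    rw [LinearMap.mem_ker, Polynomial.lcoeff_apply]
    exact (X_pow_dvd_iff.mp hp) k hk)).comp
    (Submodule.Quotient.restrictScalarsEquiv R (Ideal.span {(X : R[X]) ^ n})).symm.toLinearMap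

theorem coef_mk (k : ℕ) (hk : k < n) (p : R[X]) :
    coef k hk (Ideal.Quotient.mk (Ideal.span {(X : R[X]) ^ n}) p) = p.coeff k := rfl

theorem ext_coef {a b : MultCrv.Rn R n} (h : ∀ k (hk : k < n), coef k hk a = coef k hk b) :
    a = b := by
  obtain ⟨p, rfl⟩ := Ideal.Quotient.mk_surjective a
  obtain ⟨q, rfl⟩ := Ideal.Quotient.mk_surjective b
  rw [Ideal.Quotient.eq, Ideal.mem_span_singleton, X_pow_dvd_iff]
  intro d hd
  have h' := h d hd
  rw [coef_mk, coef_mk] at h'
  rw [coeff_sub, h', sub_self]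

theorem z_pow_eq_zero {j : ℕ} (hj : n ≤ j) : MultCrv.z R n ^ j = 0 := by
  apply ext_coef
  intro k hk
  rw [MultCrv.z, ← map_pow, coef_mk, map_zero, coeff_X_pow, if_neg (by omega)]

theorem coef_z_pow_mul (j k : ℕ) (hk : k < n) (a : MultCrv.Rn R n) :
    coef k hk (MultCrv.z R n ^ j * a) =
      if h : j ≤ k then coef (k - j) (by omega) a else 0 := by
  obtain ⟨p, rfl⟩ := Ideal.Quotient.mk_surjective a
  rw [MultCrv.z, ← map_pow, ← map_mul, coef_mk, coeff_X_pow_mul']
  split_ifs with h
  · rw [coef_mk]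
  · rfl

theorem coef_z_pow (j k : ℕ) (hk : k < n) :
    coef k hk (MultCrv.z R n ^ j) = if k = j then 1 else 0 := by
  rw [MultCrv.z, ← map_pow, coef_mk, coeff_X_pow]

/-- `ε(z^(n-1-k) a)` is the `k`-th coefficient. -/
theorem coef_top_z_pow_mul (hn : 1 ≤ n) (k : ℕ) (hk : k < n) (a : MultCrv.Rn R n) :
    coef (n - 1) (by omega) (MultCrv.z R n ^ (n - 1 - k) * a) = coef k hk a := by
  rw [coef_z_pow_mul, dif_pos (by omega)]
  congr 2
  all_goals omega

theorem mul_z_pow_pred (hn : 1 ≤ n) (a : MultCrv.Rn R n) :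
    a * MultCrv.z R n ^ (n - 1) = coef 0 hn a • MultCrv.z R n ^ (n - 1) := by
  apply ext_coef
  intro k hk
  rw [map_smul, smul_eq_mul, mul_comm a, coef_z_pow_mul, coef_z_pow]
  by_cases h : k = n - 1
  · subst h
    rw [dif_pos le_rfl, if_pos rfl, mul_one]
    congr 2
    omega
  · rw [dif_neg (by omega), if_neg h, mul_zero]

/-- `R[X]/(X^n)` is free with basis the powers of `z`. -/
noncomputable def coefEquiv : MultCrv.Rn R n ≃ₗ[R] (Fin n → R) where
  toFun a i := coef i.1 i.2 a
  map_add' a b := by ext i; simp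
  map_smul' r a := by ext i; simp
  invFun c := ∑ i : Fin n, c i • MultCrv.z R n ^ i.1
  left_inv a := by
    apply ext_coef
    intro k hk
    rw [map_sum, Finset.sum_eq_single ⟨k, hk⟩]
    · simp [coef_z_pow]
    · intro i _ hi
      have : k ≠ i.1 := fun e => hi (Fin.ext e.symm)
      simp [coef_z_pow, this]
    · simp
  right_inv c := by
    ext ⟨k, hk⟩
    simp only [map_sum]
    rw [Finset.sum_eq_single ⟨k, hk⟩]
    · simp [coef_z_pow]
    · intro i _ hi
      have : k ≠ i.1 := fun e => hi (Fin.ext e.symm)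
      simp [coef_z_pow, this]
    · simp

instance finite_Rn : Module.Finite R (MultCrv.Rn R n) :=
  Module.Finite.equiv (coefEquiv (R := R) (n := n)).symm

instance free_Rn : Module.Free R (MultCrv.Rn R n) :=
  Module.Free.of_equiv (coefEquiv (R := R) (n := n)).symm

theorem finite_of_finite (M : Type*) [AddCommGroup M] [Module (MultCrv.Rn R n) M] [Module R M]
    [IsScalarTower R (MultCrv.Rn R n) M] [Module.Finite (MultCrv.Rn R n) M] : Module.Finite R M :=
  Module.Finite.trans (MultCrv.Rn R n) M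

theorem smul_eq_zero_imp [IsDomain R] {r : R} (hr : r ≠ 0) {a : MultCrv.Rn R n}
    (h : r • a = 0) : a = 0 := by
  apply ext_coef
  intro k hk
  have h' := congrArg (coef k hk) h
  rw [map_smul, map_zero, smul_eq_mul, mul_eq_zero] at h'
  rw [h'.resolve_left hr, map_zero]

theorem isTorsionFree_of_forall [IsDomain R] {M : Type*} [AddCommGroup M] [Module R M]
    (h : ∀ r : R, r ≠ 0 → ∀ m : M, r • m = 0 → m = 0) : Module.IsTorsionFree R M :=
  ⟨fun r hr x y hxy => sub_eq_zero.mp (h r hr.ne_zero _ (by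
    simp only at hxy
    rw [smul_sub, hxy, sub_self]))⟩

theorem eq_zero_of_smul_eq_zero [IsDomain R] {M : Type*} [AddCommGroup M] [Module R M]
    [Module.IsTorsionFree R M] {r : R} (hr : r ≠ 0) {m : M} (h : r • m = 0) : m = 0 :=
  (smul_right_injective M hr) (show r • m = r • (0 : M) by rw [h, smul_zero])

section Duality

variable {M : Type*} [AddCommGroup M] [Module (MultCrv.Rn R n) M] [Module R M]
  [IsScalarTower R (MultCrv.Rn R n) M]

/-- The `A`-linear form attached to an `R`-linear form. -/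
noncomputable def lift (ψ : M →ₗ[R] R) : M →ₗ[MultCrv.Rn R n] MultCrv.Rn R n where
  toFun m := coefEquiv.symm fun i : Fin n => ψ (MultCrv.z R n ^ (n - 1 - i.1) • m)
  map_add' a b := by
    rw [← map_add]
    congr 1
    ext i
    simp
  map_smul' a m := by
    let f : M → MultCrv.Rn R n := fun m =>
      coefEquiv.symm fun i : Fin n => ψ (MultCrv.z R n ^ (n - 1 - i.1) • m)
    have hadd : ∀ x y : M, f (x + y) = f x + f y := fun x y => by
      simp only [f]
      rw [← map_add]
      congr 1
      ext i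
      simp
    have hz : ∀ x : M, f (MultCrv.z R n • x) = MultCrv.z R n * f x := fun x => by
      apply ext_coef
      intro k hk
      have e : ∀ (y : M) (j : ℕ) (hj : j < n), coef j hj (f y) =
          ψ (MultCrv.z R n ^ (n - 1 - j) • y) := fun y j hj =>
        congrFun (coefEquiv.apply_symm_apply
          (fun i : Fin n => ψ (MultCrv.z R n ^ (n - 1 - i.1) • y))) ⟨j, hj⟩
      have h1 := coef_z_pow_mul 1 k hk (f x)
      rw [pow_one] at h1
      rw [e, h1, smul_smul, ← pow_succ]
      split_ifs with h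
      · rw [e]
        congr 3
        omega
      · rw [z_pow_eq_zero (by omega)]
        exact (congrArg ψ (zero_smul (MultCrv.Rn R n) x)).trans (map_zero ψ)
    have hC : ∀ (r : R) (x : M), f (r • x) = r • f x := fun r x => by
      simp only [f]
      rw [← map_smul]
      congr 1
      ext i
      simp [smul_comm (MultCrv.z R n ^ (n - 1 - i.1)) r x]
    show f (a • m) = a • f m
    obtain ⟨p, rfl⟩ := Ideal.Quotient.mk_surjective a
    induction p using Polynomial.induction_on generalizing m with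
    | C r =>
      have : (Ideal.Quotient.mk (Ideal.span {(X : R[X]) ^ n}) (C r)) =
          algebraMap R (MultCrv.Rn R n) r := rfl
      rw [this, algebraMap_smul, algebraMap_smul, hC]
    | add p q hp hq => rw [map_add, add_smul, hadd, hp, hq, add_smul]
    | monomial k r ih =>
      rw [pow_succ, ← mul_assoc, map_mul, mul_smul, ih, smul_eq_mul, smul_eq_mul, mul_assoc]
      exact congrArg _ (hz m)

theorem coef_lift (ψ : M →ₗ[R] R) (m : M) (k : ℕ) (hk : k < n) :
    coef k hk (lift (n := n) ψ m) = ψ (MultCrv.z R n ^ (n - 1 - k) • m) :=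
  congrFun (coefEquiv.apply_symm_apply
    (fun i : Fin n => ψ (MultCrv.z R n ^ (n - 1 - i.1) • m))) ⟨k, hk⟩

theorem coef_top_lift (hn : 1 ≤ n) (ψ : M →ₗ[R] R) (m : M) :
    coef (n - 1) (by omega) (lift (n := n) ψ m) = ψ m := by
  rw [coef_lift, Nat.sub_self, pow_zero, one_smul]

/-- `φ ↦ ε ∘ φ`, as an equivalence `Hom_A(M, A) ≃ Hom_R(M, R)`. -/
noncomputable def dualEquiv (hn : 1 ≤ n) :
    (M →ₗ[MultCrv.Rn R n] MultCrv.Rn R n) ≃ₗ[R] (M →ₗ[R] R) where
  toFun φ := (coef (n - 1) (by omega)).comp (φ.restrictScalars R)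
  map_add' φ φ' := by ext m; simp
  map_smul' r φ := by ext m; simp
  invFun := lift
  left_inv φ := by
    ext m
    apply ext_coef
    intro k hk
    rw [coef_lift, LinearMap.comp_apply, LinearMap.restrictScalars_apply, map_smul, smul_eq_mul,
      coef_top_z_pow_mul hn k hk]
  right_inv ψ := by
    ext m
    exact coef_top_lift hn ψ m

theorem dualEquiv_apply (hn : 1 ≤ n) (φ : M →ₗ[MultCrv.Rn R n] MultCrv.Rn R n) (m : M) :
    dualEquiv hn φ m = coef (n - 1) (by omega) (φ m) := rfl

theorem coef_apply_eq (hn : 1 ≤ n) (φ : M →ₗ[MultCrv.Rn R n] MultCrv.Rn R n) (m : M)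
    (k : ℕ) (hk : k < n) :
    coef k hk (φ m) = dualEquiv hn φ (MultCrv.z R n ^ (n - 1 - k) • m) := by
  rw [dualEquiv_apply, map_smul, smul_eq_mul, coef_top_z_pow_mul hn k hk]

end Duality

end Groth.Agent.MultCrvLib
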