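import Mathlib.Algebra.Category.ModuleCat.Projective
import Mathlib.Algebra.Homology.DerivedCategory.Ext.EnoughProjectives
import Mathlib.Algebra.Homology.DerivedCategory.Ext.Linear
import Mathlib.Algebra.Homology.DerivedCategory.Ext.ExactSequences
import Mathlib.Algebra.Homology.ShortComplex.ModuleCat
import Mathlib.Algebra.Category.ModuleCat.Abelian
import Mathlib.Algebra.Category.ModuleCat.Ext.HasExt
import Mathlib.LinearAlgebra.StdBasis

/-!
# Dimension shifting for `Ext` in `ModuleCat`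
-/

universe u

open CategoryTheory Abelian

namespace Groth.Agent.MultCrvLib

variable {A : Type u} [CommRing A]

theorem projective_of_pi (ι : Type u) [Fintype ι] : Projective (ModuleCat.of A (ι → A)) :=
  ModuleCat.projective_of_free (M := ModuleCat.of A (ι → A)) (Pi.basisFun A ι)

theorem shortExact_of_exact {X₁ X₂ X₃ : Type u} [AddCommGroup X₁] [Module A X₁] [AddCommGroup X₂]
    [Module A X₂] [AddCommGroup X₃] [Module A X₃] (f : X₁ →ₗ[A] X₂) (g : X₂ →ₗ[A] X₃)
    (hf : Function.Injective f) (hg : Function.Surjective g) (hex : Function.Exact f g) :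
    (ShortComplex.moduleCatMk f g hex.linearMap_comp_eq_zero).ShortExact := by
  have : Mono (ShortComplex.moduleCatMk f g hex.linearMap_comp_eq_zero).f :=
    (ModuleCat.mono_iff_injective _).mpr hf
  have : Epi (ShortComplex.moduleCatMk f g hex.linearMap_comp_eq_zero).g :=
    (ModuleCat.epi_iff_surjective _).mpr hg
  exact { exact := (ShortComplex.ShortExact.moduleCat_exact_iff_function_exact _).mpr hex }

variable {S : ShortComplex (ModuleCat.{u} A)} (hS : S.ShortExact) [Projective S.X₂]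
  {Y : ModuleCat.{u} A}

include hS in
theorem exists_extClass_comp {n : ℕ} (x : Ext S.X₃ Y (n + 1)) :
    ∃ y : Ext S.X₁ Y n, hS.extClass.comp y (Nat.add_comm 1 n) = x :=
  Ext.contravariant_sequence_exact₃ hS _ x (Ext.eq_zero_of_projective _) (Nat.add_comm 1 n)

include hS in
theorem subsingleton_ext_succ {n : ℕ} (h : Subsingleton (Ext S.X₁ Y n)) :
    Subsingleton (Ext S.X₃ Y (n + 1)) := by
  refine subsingleton_of_forall_eq 0 fun x => ?_
  obtain ⟨y, rfl⟩ := exists_extClass_comp hS x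
  rw [Subsingleton.elim y 0, Ext.comp_zero]

include hS in
theorem subsingleton_ext_one_iff :
    Subsingleton (Ext S.X₃ Y 1) ↔ ∀ u : S.X₁ ⟶ Y, ∃ v : S.X₂ ⟶ Y, S.f ≫ v = u := by
  constructor
  · intro h u
    obtain ⟨x₂, hx₂⟩ := Ext.contravariant_sequence_exact₁ hS _ (Ext.mk₀ u) (n₁ := 1) rfl
      (Subsingleton.elim _ _)
    obtain ⟨v, rfl⟩ := Ext.homEquiv₀.symm.surjective x₂
    refine ⟨v, Ext.homEquiv₀.symm.injective ?_⟩
    change Ext.mk₀ (S.f ≫ v) = Ext.mk₀ u
    rw [← hx₂]
    exact (Ext.mk₀_comp_mk₀ _ _).symm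
  · intro h
    refine subsingleton_of_forall_eq 0 fun x => ?_
    obtain ⟨y, rfl⟩ := exists_extClass_comp hS x
    obtain ⟨u, rfl⟩ := Ext.homEquiv₀.symm.surjective y
    obtain ⟨v, rfl⟩ := h u
    change hS.extClass.comp (Ext.mk₀ (S.f ≫ v)) _ = 0
    rw [← Ext.mk₀_comp_mk₀, hS.extClass_comp_assoc]

omit hS in
/-- If `a • 𝟙 X` factors through a projective, `a` kills all positive `Ext` out of `X`. -/
theorem smul_ext_eq_zero {X P : ModuleCat.{u} A} [Projective P] (a : A) (α : X ⟶ P) (β : P ⟶ X)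
    (h : α ≫ β = a • 𝟙 X) {n : ℕ} (x : Ext X Y (n + 1)) : a • x = 0 := by
  have e : a • x = (Ext.mk₀ (a • 𝟙 X)).comp x (zero_add _) := by
    rw [Ext.mk₀_smul, Ext.smul_comp, Ext.mk₀_id_comp]
  rw [e, ← h, ← Ext.mk₀_comp_mk₀_assoc, Ext.eq_zero_of_projective ((Ext.mk₀ β).comp x _),
    Ext.comp_zero]

end Groth.Agent.MultCrvLib
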