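import Groth.Agent.MultCrvLib.Modules
import Groth.Agent.MultCrvLib.Ext

/-!
# `Ext` over `R[X]/(X^n)`, `R` a discrete valuation ring
-/

universe u

open CategoryTheory Abelian

namespace Groth.Agent.MultCrvLib

variable {R : Type u} [CommRing R] [IsDomain R] [IsDiscreteValuationRing R] {n : ℕ}
  {M : Type u} [AddCommGroup M] [Module (MultCrv.Rn R n) M] [Module.Finite (MultCrv.Rn R n) M]

theorem isNoetherianRing_Rn : IsNoetherianRing (MultCrv.Rn R n) :=
  isNoetherianRing_of_surjective (Polynomial R) (MultCrv.Rn R n) (Ideal.Quotient.mk _)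
    Ideal.Quotient.mk_surjective

theorem finite_ker {r : ℕ} (π : (Fin r → MultCrv.Rn R n) →ₗ[MultCrv.Rn R n] M) :
    Module.Finite (MultCrv.Rn R n) (LinearMap.ker π) :=
  have := isNoetherianRing_Rn (R := R) (n := n)
  Module.Finite.of_fg (IsNoetherian.noetherian _)

theorem isTorsionFree_ker {r : ℕ} (π : (Fin r → MultCrv.Rn R n) →ₗ[MultCrv.Rn R n] M) :
    Module.IsTorsionFree R (LinearMap.ker π) :=
  isTorsionFree_of_forall fun t ht x hx => Subtype.ext (eq_zero_of_smul_eq_zero ht (by
    rw [← SetLike.val_smul_of_tower, hx, Submodule.coe_zero]))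

theorem projective_fin (r : ℕ) :
    Projective (ModuleCat.of (MultCrv.Rn R n) (Fin r → MultCrv.Rn R n)) :=
  ModuleCat.projective_of_free (M := ModuleCat.of _ _) (Pi.basisFun (MultCrv.Rn R n) (Fin r))

instance projective_X₂ {r : ℕ} (π : (Fin r → MultCrv.Rn R n) →ₗ[MultCrv.Rn R n] M) :
    Projective (ShortComplex.moduleCatMk (LinearMap.ker π).subtype π
      (LinearMap.exact_subtype_ker_map π).linearMap_comp_eq_zero).X₂ :=
  projective_fin r

/-- The presentation sequence of a surjection from a finite free module. -/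
theorem shortExact_presentation {r : ℕ} (π : (Fin r → MultCrv.Rn R n) →ₗ[MultCrv.Rn R n] M)
    (hπ : Function.Surjective π) :
    (ShortComplex.moduleCatMk (LinearMap.ker π).subtype π
      (LinearMap.exact_subtype_ker_map π).linearMap_comp_eq_zero).ShortExact :=
  shortExact_of_exact _ _ Subtype.val_injective hπ (LinearMap.exact_subtype_ker_map π)

theorem ext_one_self (hn : 1 ≤ n) [Module R M] [IsScalarTower R (MultCrv.Rn R n) M]
    (h : Module.IsTorsionFree R M) :
    Subsingleton (Ext (ModuleCat.of (MultCrv.Rn R n) M)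
      (ModuleCat.of (MultCrv.Rn R n) (MultCrv.Rn R n)) 1) := by
  obtain ⟨r, π, hπ⟩ := Module.Finite.exists_fin' (MultCrv.Rn R n) M
  have := projective_fin (R := R) (n := n) r
  refine (subsingleton_ext_one_iff (shortExact_presentation π hπ)).mpr fun u => ?_
  obtain ⟨ζ, hζ⟩ := exists_extend hn (LinearMap.ker π).subtype π Subtype.val_injective hπ
    (Submodule.range_subtype _) u.hom
  exact ⟨ModuleCat.ofHom ζ, ModuleCat.hom_ext hζ⟩

theorem isTorsionFree_of_ext_one (hn : 1 ≤ n) [Module R M] [IsScalarTower R (MultCrv.Rn R n) M]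
    (h : Subsingleton (Ext (ModuleCat.of (MultCrv.Rn R n) M)
      (ModuleCat.of (MultCrv.Rn R n) (MultCrv.Rn R n)) 1)) : Module.IsTorsionFree R M := by
  obtain ⟨r, π, hπ⟩ := Module.Finite.exists_fin' (MultCrv.Rn R n) M
  have := projective_fin (R := R) (n := n) r
  refine isTorsionFree_of_extend hn π hπ fun ξ => ?_
  obtain ⟨v, hv⟩ := (subsingleton_ext_one_iff (shortExact_presentation π hπ)).mp h
    (ModuleCat.ofHom ξ)
  exact ⟨v.hom, congrArg ModuleCat.Hom.hom hv⟩

theorem ext_self_succ (hn : 1 ≤ n) : ∀ (i : ℕ) (M : Type u) [AddCommGroup M]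
    [Module (MultCrv.Rn R n) M] [Module R M] [IsScalarTower R (MultCrv.Rn R n) M]
    [Module.Finite (MultCrv.Rn R n) M], Module.IsTorsionFree R M →
    Subsingleton (Ext (ModuleCat.of (MultCrv.Rn R n) M)
      (ModuleCat.of (MultCrv.Rn R n) (MultCrv.Rn R n)) (i + 1)) := by
  intro i
  induction i with
  | zero => intro M _ _ _ _ _ h; exact ext_one_self hn h
  | succ i ih =>
    intro M _ _ _ _ _ h
    obtain ⟨r, π, hπ⟩ := Module.Finite.exists_fin' (MultCrv.Rn R n) M
    have := projective_fin (R := R) (n := n) r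
    have := finite_ker π
    exact subsingleton_ext_succ (shortExact_presentation π hπ)
      (ih (LinearMap.ker π) (isTorsionFree_ker π))

theorem ext_self_of_two_le (hn : 1 ≤ n) (i : ℕ) :
    Subsingleton (Ext (ModuleCat.of (MultCrv.Rn R n) M)
      (ModuleCat.of (MultCrv.Rn R n) (MultCrv.Rn R n)) (i + 1 + 1)) := by
  obtain ⟨r, π, hπ⟩ := Module.Finite.exists_fin' (MultCrv.Rn R n) M
  have := projective_fin (R := R) (n := n) r
  have := finite_ker π
  exact subsingleton_ext_succ (shortExact_presentation π hπ)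
    (ext_self_succ hn i (LinearMap.ker π) (isTorsionFree_ker π))

theorem zpow_smul_ext_of_isTorsionFree (hn : 1 ≤ n) [Module R M]
    [IsScalarTower R (MultCrv.Rn R n) M] (h : Module.IsTorsionFree R M)
    {Y : ModuleCat.{u} (MultCrv.Rn R n)} {i : ℕ}
    (x : Ext (ModuleCat.of (MultCrv.Rn R n) M) Y (i + 1)) :
    (MultCrv.z R n ^ (n - 1)) • x = 0 := by
  obtain ⟨ι, _, α, β, hαβ⟩ := exists_factor hn h
  have := projective_of_pi (A := MultCrv.Rn R n) ι
  exact smul_ext_eq_zero _ (ModuleCat.ofHom α) (ModuleCat.ofHom β)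
    (ModuleCat.hom_ext (LinearMap.ext hαβ)) x

theorem zpow_smul_ext_of_two_le (hn : 1 ≤ n) {Y : ModuleCat.{u} (MultCrv.Rn R n)} {i : ℕ}
    (x : Ext (ModuleCat.of (MultCrv.Rn R n) M) Y (i + 1 + 1)) :
    (MultCrv.z R n ^ (n - 1)) • x = 0 := by
  obtain ⟨r, π, hπ⟩ := Module.Finite.exists_fin' (MultCrv.Rn R n) M
  have := projective_fin (R := R) (n := n) r
  have := finite_ker π
  obtain ⟨y, rfl⟩ := exists_extClass_comp (shortExact_presentation π hπ) x
  have hy : (MultCrv.z R n ^ (n - 1)) • y = 0 :=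
    zpow_smul_ext_of_isTorsionFree hn (isTorsionFree_ker π) y
  exact (Ext.comp_smul _ y (Nat.add_comm 1 (i + 1)) _).symm.trans
    ((congrArg (fun w => Ext.comp _ w _) hy).trans (Ext.comp_zero _ _ _ _ _))

end Groth.Agent.MultCrvLib
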