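import Groth.Agent.MultCrvLib.Modules
import Mathlib.LinearAlgebra.Dimension.RankNullity
import Mathlib.LinearAlgebra.Dimension.Localization
import Mathlib.RingTheory.Finiteness.Basic

/-!
# The two canonical filtrations of a module over `R[X]/(X^n)`
-/

universe u

namespace Groth.Agent.MultCrvLib

variable {R : Type u} [CommRing R] {n : ℕ} {M : Type u} [AddCommGroup M]
  [Module (MultCrv.Rn R n) M]

theorem mem_filt {i : ℕ} {x : M} :
    x ∈ MultCrv.filt R n M i ↔ ∃ u : M, MultCrv.z R n ^ i • u = x := Iff.rfl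

theorem mem_filt2 {i : ℕ} {x : M} :
    x ∈ MultCrv.filt2 R n M i ↔ MultCrv.z R n ^ i • x = 0 := Iff.rfl

theorem filt_succ_le (i : ℕ) : MultCrv.filt R n M (i + 1) ≤ MultCrv.filt R n M i := by
  rintro x ⟨u, rfl⟩
  exact mem_filt.mpr ⟨MultCrv.z R n • u, by rw [smul_smul, ← pow_succ]; rfl⟩

/-- Multiplication by `z`, from `z^i M` onto `z^(i+1) M`. -/
noncomputable def zUp (i : ℕ) : MultCrv.filt R n M i →ₗ[MultCrv.Rn R n] MultCrv.filt R n M (i + 1) :=
  ((MultCrv.z R n • (LinearMap.id : M →ₗ[MultCrv.Rn R n] M)).domRestrict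
    (MultCrv.filt R n M i)).codRestrict _ (fun x => by
      obtain ⟨u, hu⟩ := mem_filt.mp x.2
      refine mem_filt.mpr ⟨u, ?_⟩
      rw [pow_succ', ← smul_smul, hu]
      rfl)

theorem zUp_apply (i : ℕ) (x : MultCrv.filt R n M i) :
    ((zUp i x : MultCrv.filt R n M (i + 1)) : M) = MultCrv.z R n • (x : M) := rfl

theorem zUp_surjective (i : ℕ) : Function.Surjective (zUp (R := R) (n := n) (M := M) i) := by
  rintro ⟨x, hx⟩
  obtain ⟨u, rfl⟩ := mem_filt.mp hx
  refine ⟨⟨MultCrv.z R n ^ i • u, mem_filt.mpr ⟨u, rfl⟩⟩, Subtype.ext ?_⟩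
  rw [zUp_apply, smul_smul, ← pow_succ']

/-- `u ↦ z^i u`, from `M^(i+1)` onto the kernel of `zUp`. -/
noncomputable def toKer (i : ℕ) :
    MultCrv.filt2 R n M (i + 1) →ₗ[MultCrv.Rn R n] LinearMap.ker (zUp (R := R) (n := n) (M := M) i) :=
  ((((MultCrv.z R n ^ i) • (LinearMap.id : M →ₗ[MultCrv.Rn R n] M)).domRestrict
    (MultCrv.filt2 R n M (i + 1))).codRestrict (MultCrv.filt R n M i)
      (fun x => mem_filt.mpr ⟨x, rfl⟩)).codRestrict _ (fun x => by
      have hx := mem_filt2.mp x.2
      rw [LinearMap.mem_ker]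
      refine Subtype.ext ?_
      rw [zUp_apply]
      change MultCrv.z R n • (MultCrv.z R n ^ i • (x : M)) = 0
      rw [smul_smul, ← pow_succ', hx])

theorem toKer_surjective (i : ℕ) : Function.Surjective (toKer (R := R) (n := n) (M := M) i) := by
  rintro ⟨⟨x, hx⟩, hk⟩
  obtain ⟨u, rfl⟩ := mem_filt.mp hx
  have h := congrArg Subtype.val (LinearMap.mem_ker.mp hk)
  rw [zUp_apply] at h
  refine ⟨⟨u, mem_filt2.mpr ?_⟩, rfl⟩
  rw [pow_succ', ← smul_smul]
  exact h

theorem ker_toKer (i : ℕ) : LinearMap.ker (toKer (R := R) (n := n) (M := M) i) =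
    Submodule.comap (MultCrv.filt2 R n M (i + 1)).subtype (MultCrv.filt2 R n M (i + 1 - 1)) := by
  ext x
  rw [LinearMap.mem_ker, Submodule.mem_comap, Nat.add_sub_cancel, mem_filt2]
  exact ⟨fun h => congrArg Subtype.val (congrArg Subtype.val h),
    fun h => Subtype.ext (Subtype.ext h)⟩

variable [IsDomain R] [IsDiscreteValuationRing R] [Module R M]
  [IsScalarTower R (MultCrv.Rn R n) M] [Module.Finite (MultCrv.Rn R n) M]

theorem finrank_G2_eq (i : ℕ) :
    Module.finrank R (MultCrv.G2 R n M (i + 1)) = Module.finrank R (MultCrv.G1 R n M i) := by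
  let F := MultCrv.filt R n M i
  have : Module.Finite R F := finite_submodule F
  have e1 : MultCrv.G2 R n M (i + 1) ≃ₗ[MultCrv.Rn R n]
      LinearMap.ker (zUp (R := R) (n := n) (M := M) i) :=
    (Submodule.quotEquivOfEq _ _ (ker_toKer i).symm).trans
      ((toKer i).quotKerEquivOfSurjective (toKer_surjective i))
  have h1 := Submodule.finrank_quotient_add_finrank
    ((LinearMap.ker (zUp (R := R) (n := n) (M := M) i)).restrictScalars R)
  have h2 := Submodule.finrank_quotient_add_finrank
    ((Submodule.comap F.subtype (MultCrv.filt R n M (i + 1))).restrictScalars R)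
  have h3 : Module.finrank R
      (F ⧸ (LinearMap.ker (zUp (R := R) (n := n) (M := M) i)).restrictScalars R) =
      Module.finrank R (MultCrv.filt R n M (i + 1)) :=
    ((Submodule.Quotient.restrictScalarsEquiv R
        (LinearMap.ker (zUp (R := R) (n := n) (M := M) i))).trans
      (((zUp i).quotKerEquivOfSurjective (zUp_surjective i)).restrictScalars R)).finrank_eq
  have h4 : Module.finrank R
      ((Submodule.comap F.subtype (MultCrv.filt R n M (i + 1))).restrictScalars R) =
      Module.finrank R (MultCrv.filt R n M (i + 1)) :=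
    LinearEquiv.finrank_eq
      { (Submodule.comapSubtypeEquivOfLe (filt_succ_le i)).toAddEquiv with
        map_smul' := fun _ _ => Subtype.ext rfl }
  have h5 : Module.finrank R
      (F ⧸ (Submodule.comap F.subtype (MultCrv.filt R n M (i + 1))).restrictScalars R) =
      Module.finrank R (MultCrv.G1 R n M i) :=
    (Submodule.Quotient.restrictScalarsEquiv R
      (Submodule.comap F.subtype (MultCrv.filt R n M (i + 1)))).finrank_eq
  have h6 : Module.finrank R (MultCrv.G2 R n M (i + 1)) =
      Module.finrank R ((LinearMap.ker (zUp (R := R) (n := n) (M := M) i)).restrictScalars R) :=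
    (e1.restrictScalars R).finrank_eq
  have key : Module.finrank R (MultCrv.G1 R n M i) + Module.finrank R (MultCrv.filt R n M (i + 1)) =
      Module.finrank R (MultCrv.filt R n M (i + 1)) + Module.finrank R (MultCrv.G2 R n M (i + 1)) := by
    refine ((congrArg₂ (· + ·) h5.symm h4.symm).trans ?_).trans (congrArg₂ (· + ·) h3 h6.symm)
    exact h2.trans h1.symm
  omega

theorem free_G1_iff (i : ℕ) : Module.Free R (MultCrv.G1 R n M i) ↔
    ∀ (x : M), x ∈ MultCrv.filt R n M i → ∀ r : R, r ≠ 0 →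
      r • x ∈ MultCrv.filt R n M (i + 1) → x ∈ MultCrv.filt R n M (i + 1) := by
  have : Module.Finite R (MultCrv.G1 R n M i) := finite_quot _ _
  constructor
  · intro h x hx r hr hrx
    have h0 : r • (Submodule.Quotient.mk ⟨x, hx⟩ : MultCrv.G1 R n M i) = 0 := by
      rw [← Submodule.Quotient.mk_smul, Submodule.Quotient.mk_eq_zero]
      exact hrx
    exact (Submodule.Quotient.mk_eq_zero (x := (⟨x, hx⟩ : MultCrv.filt R n M i)) _).mp (@eq_zero_of_smul_eq_zero R _ _
      (MultCrv.G1 R n M i) _ _ inferInstance r hr _ h0)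
  · intro h
    have htf : Module.IsTorsionFree R (MultCrv.G1 R n M i) := by
      refine isTorsionFree_of_forall fun r hr q hq => ?_
      obtain ⟨⟨x, hx⟩, rfl⟩ := Submodule.Quotient.mk_surjective _ q
      rw [← Submodule.Quotient.mk_smul, Submodule.Quotient.mk_eq_zero] at hq
      exact (Submodule.Quotient.mk_eq_zero _).mpr (h x hx r hr hq)
    exact @Module.free_of_finite_type_torsion_free' R _ _ _ _ _ _ this htf

theorem mk_gam_eq_zero (i : ℕ) (u : MultCrv.filt2 R n M (i + 1)) :
    (Submodule.Quotient.mk (Submodule.Quotient.mk u : MultCrv.G2 R n M (i + 1)) :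
        MultCrv.Gam2 R n M i) = 0 ↔
      MultCrv.z R n ^ i • (u : M) ∈ MultCrv.filt R n M (i + 1) := by
  rw [Submodule.Quotient.mk_eq_zero]
  constructor
  · rintro ⟨q, hq⟩
    obtain ⟨v, rfl⟩ := Submodule.Quotient.mk_surjective _ q
    have hq' : (Submodule.Quotient.mk (MultCrv.zDown R n M (i + 1) v) :
        MultCrv.G2 R n M (i + 1)) = Submodule.Quotient.mk u := hq
    have h2 : MultCrv.z R n ^ i • (MultCrv.z R n • (v : M) - (u : M)) = 0 := by
      have := (Submodule.Quotient.eq _).mp hq'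
      rw [Submodule.mem_comap, Nat.add_sub_cancel] at this
      exact this
    refine mem_filt.mpr ⟨v, ?_⟩
    rw [smul_sub, sub_eq_zero] at h2
    rw [← h2, smul_smul, pow_succ]
  · intro h
    obtain ⟨v, hv⟩ := mem_filt.mp h
    have hv2 : v ∈ MultCrv.filt2 R n M (i + 2) := by
      refine mem_filt2.mpr ?_
      rw [show i + 2 = 1 + (i + 1) by omega, pow_add, pow_one, ← smul_smul, hv, smul_smul,
        ← pow_succ']
      exact mem_filt2.mp u.2
    refine ⟨Submodule.Quotient.mk ⟨v, hv2⟩, ?_⟩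
    change (Submodule.Quotient.mk (MultCrv.zDown R n M (i + 1) ⟨v, hv2⟩) :
      MultCrv.G2 R n M (i + 1)) = Submodule.Quotient.mk u
    rw [Submodule.Quotient.eq, Submodule.mem_comap, Nat.add_sub_cancel]
    refine mem_filt2.mpr ?_
    change MultCrv.z R n ^ i • (MultCrv.z R n • v - (u : M)) = 0
    rw [smul_sub, sub_eq_zero, smul_smul, ← pow_succ]
    exact hv

theorem free_Gam2_iff (i : ℕ) : Module.Free R (MultCrv.Gam2 R n M i) ↔
    ∀ (u : M), u ∈ MultCrv.filt2 R n M (i + 1) → ∀ r : R, r ≠ 0 →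
      MultCrv.z R n ^ i • (r • u) ∈ MultCrv.filt R n M (i + 1) →
        MultCrv.z R n ^ i • u ∈ MultCrv.filt R n M (i + 1) := by
  have h0 : Module.Finite R (MultCrv.G2 R n M (i + 1)) := finite_quot _ _
  have : Module.Finite R (MultCrv.Gam2 R n M i) := by
    exact Module.Finite.of_surjective ((Submodule.mkQ _).restrictScalars R)
      (Submodule.mkQ_surjective (LinearMap.range (MultCrv.lamG2 R n M i)))
  constructor
  · intro h u hu r hr hru
    refine (mk_gam_eq_zero i ⟨u, hu⟩).mp (eq_zero_of_smul_eq_zero hr ?_)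
    rw [← Submodule.Quotient.mk_smul, ← Submodule.Quotient.mk_smul]
    exact (mk_gam_eq_zero i (r • (⟨u, hu⟩ : MultCrv.filt2 R n M (i + 1)))).mpr hru
  · intro h
    have htf : Module.IsTorsionFree R (MultCrv.Gam2 R n M i) := by
      refine isTorsionFree_of_forall fun r hr q hq => ?_
      obtain ⟨q, rfl⟩ := Submodule.Quotient.mk_surjective _ q
      obtain ⟨u, rfl⟩ := Submodule.Quotient.mk_surjective _ q
      rw [← Submodule.Quotient.mk_smul, ← Submodule.Quotient.mk_smul] at hq
      exact (mk_gam_eq_zero i u).mpr (h u u.2 r hr ((mk_gam_eq_zero i (r • u)).mp hq))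
    exact @Module.free_of_finite_type_torsion_free' R _ _ _ _ _ _ this htf

theorem free_G1_iff_free_Gam2 :
    (∀ i, i < n → Module.Free R (MultCrv.G1 R n M i)) ↔
      (∀ i, i < n → Module.Free R (MultCrv.Gam2 R n M i)) := by
  constructor
  · intro h i hi
    refine (free_Gam2_iff i).mpr fun u _ r hr hru => (free_G1_iff i).mp (h i hi) _
      (mem_filt.mpr ⟨u, rfl⟩) r hr ?_
    rwa [smul_comm]
  · intro h
    have key : ∀ k i, n ≤ i + k → ∀ x : M, x ∈ MultCrv.filt R n M i → ∀ r : R, r ≠ 0 →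
        r • x ∈ MultCrv.filt R n M (i + 1) → x ∈ MultCrv.filt R n M (i + 1) := by
      intro k
      induction k with
      | zero =>
        intro i hi x hx r _ _
        obtain ⟨u, rfl⟩ := mem_filt.mp hx
        rw [z_pow_eq_zero (by omega)]
        exact (zero_smul (MultCrv.Rn R n) u).symm ▸ zero_mem _
      | succ k ih =>
        intro i hi x hx r hr hrx
        by_cases hin : n ≤ i
        · exact ih i (by omega) x hx r hr hrx
        obtain ⟨u, rfl⟩ := mem_filt.mp hx
        obtain ⟨w, hw⟩ := mem_filt.mp hrx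
        have h1 : MultCrv.z R n ^ (i + 1) • u ∈ MultCrv.filt R n M (i + 1 + 1) := by
          refine ih (i + 1) (by omega) _ (mem_filt.mpr ⟨u, rfl⟩) r hr (mem_filt.mpr ⟨w, ?_⟩)
          rw [pow_succ', ← smul_smul, hw, smul_comm, smul_smul, ← pow_succ']
        obtain ⟨m, hm⟩ := mem_filt.mp h1
        have hu2 : u - MultCrv.z R n • m ∈ MultCrv.filt2 R n M (i + 1) := by
          refine mem_filt2.mpr ?_
          rw [smul_sub, ← hm, smul_smul, ← pow_succ, sub_self]
        have h2 := (free_Gam2_iff i).mp (h i (by omega)) _ hu2 r hr (by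
          rw [smul_sub, smul_sub, smul_comm _ r u]
          refine sub_mem hrx (mem_filt.mpr ⟨r • m, ?_⟩)
          rw [smul_comm r (MultCrv.z R n) m, smul_smul, ← pow_succ])
        rw [smul_sub, smul_smul, ← pow_succ] at h2
        have h3 := add_mem h2 (mem_filt.mpr ⟨m, rfl⟩ :
          MultCrv.z R n ^ (i + 1) • m ∈ MultCrv.filt R n M (i + 1))
        rwa [sub_add_cancel] at h3
    exact fun i _ => (free_G1_iff i).mpr (key n i (by omega))

end Groth.Agent.MultCrvLib
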