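import Groth.Agent.MultCrvLib.Basic
import Mathlib.Algebra.Module.Torsion.Free
import Mathlib.LinearAlgebra.Dual.Lemmas
import Mathlib.RingTheory.Noetherian.Basic

/-!
# Torsion-free modules over `R[X]/(X^n)`, `R` a discrete valuation ring
-/

open Polynomial

universe u

namespace Groth.Agent.MultCrvLib

variable {R : Type u} [CommRing R] [IsDomain R] [IsDiscreteValuationRing R] {n : ℕ}
  {M : Type u} [AddCommGroup M] [Module (MultCrv.Rn R n) M] [Module R M]
  [IsScalarTower R (MultCrv.Rn R n) M] [Module.Finite (MultCrv.Rn R n) M]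

theorem free_submodule (h : Module.IsTorsionFree R M) (N : Submodule (MultCrv.Rn R n) M) :
    Module.Free R N := by
  have := finite_of_finite (R := R) (n := n) M
  have : Module.Finite R (N.restrictScalars R) := Module.Finite.of_fg (IsNoetherian.noetherian _)
  exact inferInstanceAs (Module.Free R (N.restrictScalars R))

theorem finite_submodule (N : Submodule (MultCrv.Rn R n) M) : Module.Finite R N := by
  have := finite_of_finite (R := R) (n := n) M
  exact Module.Finite.of_fg (N := N.restrictScalars R) (IsNoetherian.noetherian _)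

theorem finite_quot (N : Submodule (MultCrv.Rn R n) M) (K : Submodule (MultCrv.Rn R n) N) :
    Module.Finite R (N ⧸ K) := by
  have := finite_submodule (R := R) N
  exact Module.Finite.of_surjective (K.mkQ.restrictScalars R) (Submodule.mkQ_surjective K)

theorem isReflexive_iff (hn : 1 ≤ n) :
    Module.IsReflexive (MultCrv.Rn R n) M ↔ Module.IsTorsionFree R M := by
  constructor
  · intro h
    refine isTorsionFree_of_forall fun r hr m hm => ?_
    refine (Module.bijective_dual_eval (MultCrv.Rn R n) M).injective ?_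
    rw [map_zero]
    ext φ
    refine smul_eq_zero_imp hr ?_
    rw [Module.Dual.eval_apply, ← φ.map_smul_of_tower, hm, map_zero]
  · intro h
    have := finite_of_finite (R := R) (n := n) M
    refine ⟨⟨?_, ?_⟩⟩
    · rw [← LinearMap.ker_eq_bot, LinearMap.ker_eq_bot']
      intro m hm
      rw [← Module.forall_dual_apply_eq_zero_iff R]
      intro ψ
      have h' : lift (n := n) ψ m = 0 := LinearMap.congr_fun hm (lift ψ)
      rw [← coef_top_lift hn ψ m, h', map_zero]
    · intro Λ
      let L : Module.Dual R M →ₗ[R] R :=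
        { toFun := fun ψ => coef (n - 1) (by omega) (Λ ((dualEquiv hn).symm ψ))
          map_add' := fun a b => by simp [map_add]
          map_smul' := fun r a => by
            rw [map_smul, ← algebraMap_smul (MultCrv.Rn R n) r ((dualEquiv hn).symm a), map_smul,
              algebraMap_smul, map_smul, RingHom.id_apply] }
      obtain ⟨m, hm⟩ := (Module.bijective_dual_eval R M).surjective L
      refine ⟨m, ?_⟩
      ext φ
      apply ext_coef
      intro k hk
      have h2 : coef (n - 1) (by omega) ((MultCrv.z R n ^ (n - 1 - k) • φ) m) =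
          coef (n - 1) (by omega) (Λ (MultCrv.z R n ^ (n - 1 - k) • φ)) := by
        have h1 := LinearMap.congr_fun hm (dualEquiv hn (MultCrv.z R n ^ (n - 1 - k) • φ))
        simp only [L, LinearMap.coe_mk, AddHom.coe_mk, LinearEquiv.symm_apply_apply] at h1
        exact h1
      rw [LinearMap.smul_apply, map_smul Λ, smul_eq_mul, smul_eq_mul,
        coef_top_z_pow_mul hn k hk, coef_top_z_pow_mul hn k hk] at h2
      exact h2

theorem exists_extend (hn : 1 ≤ n) {M' M'' : Type u} [AddCommGroup M'] [Module (MultCrv.Rn R n) M']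
    [AddCommGroup M''] [Module (MultCrv.Rn R n) M''] [Module R M'']
    [IsScalarTower R (MultCrv.Rn R n) M''] [Module.Finite (MultCrv.Rn R n) M'']
    [Module.IsTorsionFree R M''] (f : M' →ₗ[MultCrv.Rn R n] M) (g : M →ₗ[MultCrv.Rn R n] M'')
    (hf : Function.Injective f) (hg : Function.Surjective g)
    (hfg : LinearMap.range f = LinearMap.ker g) (ξ : M' →ₗ[MultCrv.Rn R n] MultCrv.Rn R n) :
    ∃ ζ : M →ₗ[MultCrv.Rn R n] MultCrv.Rn R n, ζ.comp f = ξ := by
  have := finite_of_finite (R := R) (n := n) M''
  obtain ⟨s, hs⟩ := Module.projective_lifting_property (g.restrictScalars R) LinearMap.id hg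
  have hs' : ∀ x, g (s x) = x := fun x => LinearMap.congr_fun hs x
  let ξ' : LinearMap.range f →ₗ[MultCrv.Rn R n] MultCrv.Rn R n :=
    ξ.comp (LinearEquiv.ofInjective f hf).symm.toLinearMap
  let q : M →ₗ[R] LinearMap.range f :=
    { toFun := fun m => ⟨m - s (g m), by rw [hfg, LinearMap.mem_ker, map_sub, hs', sub_self]⟩
      map_add' := fun a b => by
        ext
        simp only [map_add, AddSubmonoid.coe_add, Submodule.coe_toAddSubmonoid, Submodule.coe_add]
        abel
      map_smul' := fun r a => by
        ext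
        simp [smul_sub] }
  refine ⟨lift ((dualEquiv hn ξ').comp q), ?_⟩
  ext x
  apply ext_coef
  intro k hk
  rw [LinearMap.comp_apply, coef_lift, ← map_smul f]
  have e : q (f (MultCrv.z R n ^ (n - 1 - k) • x)) =
      LinearEquiv.ofInjective f hf (MultCrv.z R n ^ (n - 1 - k) • x) := by
    have h0 : g (f (MultCrv.z R n ^ (n - 1 - k) • x)) = 0 := by
      rw [← LinearMap.mem_ker, ← hfg]
      exact LinearMap.mem_range_self f _
    ext
    change f _ - s (g (f _)) = f _
    rw [h0, map_zero, sub_zero]
  rw [LinearMap.comp_apply, e, dualEquiv_apply]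
  have e2 : ξ' (LinearEquiv.ofInjective f hf (MultCrv.z R n ^ (n - 1 - k) • x)) =
      ξ (MultCrv.z R n ^ (n - 1 - k) • x) :=
    congrArg ξ ((LinearEquiv.ofInjective f hf).symm_apply_apply _)
  rw [e2, map_smul, smul_eq_mul, coef_top_z_pow_mul hn k hk]

/-- `z^(n-1) • id` of a torsion-free module factors through a free module. -/
theorem exists_factor (hn : 1 ≤ n) (h : Module.IsTorsionFree R M) :
    ∃ (ι : Type u) (_ : Fintype ι) (α : M →ₗ[MultCrv.Rn R n] (ι → MultCrv.Rn R n))
      (β : (ι → MultCrv.Rn R n) →ₗ[MultCrv.Rn R n] M),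
      ∀ m, β (α m) = MultCrv.z R n ^ (n - 1) • m := by
  let L : M →ₗ[MultCrv.Rn R n] M := MultCrv.z R n ^ (n - 1) • LinearMap.id
  have hLapp : ∀ m, L m = MultCrv.z R n ^ (n - 1) • m := fun _ => rfl
  have := free_submodule h (LinearMap.range L)
  have := finite_submodule (R := R) (LinearMap.range L)
  let b := Module.Free.chooseBasis R (LinearMap.range L)
  have hsm : ∀ j, ∃ m : M, L m = (b j : M) := fun j => (b j).2
  choose mj hmj using hsm
  have hα : ∀ (a : MultCrv.Rn R n) (m : M),
      L.rangeRestrict (a • m) = coef 0 hn a • L.rangeRestrict m := by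
    intro a m
    ext
    simp only [LinearMap.codRestrict_apply, SetLike.val_smul_of_tower, hLapp]
    rw [smul_smul, mul_comm, mul_z_pow_pred hn, smul_assoc]
  let α : M →ₗ[MultCrv.Rn R n] (Module.Free.ChooseBasisIndex R (LinearMap.range L) →
      MultCrv.Rn R n) :=
    { toFun := fun m j => b.repr (L.rangeRestrict m) j • MultCrv.z R n ^ (n - 1)
      map_add' := fun x y => by ext j; simp [add_smul]
      map_smul' := fun a m => by
        funext j
        rw [hα, map_smul, Finsupp.smul_apply, RingHom.id_apply, Pi.smul_apply, smul_eq_mul,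
          smul_eq_mul, mul_smul_comm, mul_z_pow_pred hn, smul_smul, mul_comm] }
  refine ⟨_, inferInstance, α, Fintype.linearCombination (MultCrv.Rn R n) mj, fun m => ?_⟩
  rw [Fintype.linearCombination_apply]
  have h1 : ((∑ j, b.repr (L.rangeRestrict m) j • b j : LinearMap.range L) : M) = L m :=
    congrArg Subtype.val (b.sum_repr (L.rangeRestrict m))
  rw [← hLapp, ← h1, Submodule.coe_sum]
  refine Finset.sum_congr rfl fun j _ => ?_
  rw [SetLike.val_smul_of_tower, ← hmj, hLapp]
  exact smul_assoc _ _ _

theorem isTorsionFree_of_extend (hn : 1 ≤ n) {r : ℕ}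
    (π : (Fin r → MultCrv.Rn R n) →ₗ[MultCrv.Rn R n] M) (hπ : Function.Surjective π)
    (h : ∀ ξ : LinearMap.ker π →ₗ[MultCrv.Rn R n] MultCrv.Rn R n,
      ∃ ζ : (Fin r → MultCrv.Rn R n) →ₗ[MultCrv.Rn R n] MultCrv.Rn R n,
        ζ.comp (LinearMap.ker π).subtype = ξ) :
    Module.IsTorsionFree R M := by
  refine isTorsionFree_of_forall fun t ht m hm => ?_
  obtain ⟨f₀, rfl⟩ := hπ m
  have hk : t • f₀ ∈ LinearMap.ker π := by rw [LinearMap.mem_ker, π.map_smul_of_tower, hm]
  have := free_submodule (inferInstance : Module.IsTorsionFree R (Fin r → MultCrv.Rn R n))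
    (LinearMap.ker π)
  let b := Module.Free.chooseBasis R (LinearMap.ker π)
  have := finite_submodule (R := R) (LinearMap.ker π)
  have hex : ∀ j, ∃ c : R, b.coord j ⟨t • f₀, hk⟩ = t * c := fun j => by
    obtain ⟨ζ, hζ⟩ := h (lift (b.coord j))
    refine ⟨coef (n - 1) (by omega) (ζ f₀), ?_⟩
    rw [← coef_top_lift hn (b.coord j), ← hζ, LinearMap.comp_apply, Submodule.subtype_apply,
      ζ.map_smul_of_tower, map_smul, smul_eq_mul]
  choose c hc using hex
  let k' : LinearMap.ker π := ∑ j, c j • b j
  have e : t • k' = ⟨t • f₀, hk⟩ := by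
    rw [← b.sum_repr ⟨t • f₀, hk⟩, Finset.smul_sum]
    refine Finset.sum_congr rfl fun j _ => ?_
    rw [smul_smul, ← hc j]
    rfl
  have e2 : f₀ = k' := sub_eq_zero.mp <| eq_zero_of_smul_eq_zero ht (by
    rw [smul_sub, ← SetLike.val_smul_of_tower, e, sub_self])
  rw [e2]
  exact k'.2

end Groth.Agent.MultCrvLib
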