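import Groth.Agent.MultCrvLib.Modules
import Mathlib.LinearAlgebra.Pi
import Mathlib.Algebra.Module.Projective

/-!
# Kernels of minimal presentations of quasi-free modules
-/

universe u

namespace Groth.Agent.MultCrvLib

variable {R : Type u} [CommRing R] {n : ℕ}

theorem mk_zpow_self_eq_zero (i : ℕ) (a : MultCrv.Rn R n) :
    (Submodule.Quotient.mk (MultCrv.z R n ^ i * a) : MultCrv.Oi R n i) = 0 :=
  (Submodule.Quotient.mk_eq_zero _).mpr (Ideal.mul_mem_right _ _ (Ideal.mem_span_singleton_self _))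

/-- The canonical map `A/(z^a) → A/(z^b)` for `b ≤ a`. -/
noncomputable def ocast {a b : ℕ} (h : b ≤ a) :
    MultCrv.Oi R n a →ₗ[MultCrv.Rn R n] MultCrv.Oi R n b :=
  Submodule.mapQ _ _ LinearMap.id (by
    intro x hx
    rw [Submodule.mem_comap, LinearMap.id_apply]
    obtain ⟨c, rfl⟩ := Ideal.mem_span_singleton.mp hx
    exact Ideal.mem_span_singleton.mpr (Dvd.dvd.mul_right (pow_dvd_pow _ h) c))

theorem ocast_mk {a b : ℕ} (h : b ≤ a) (x : MultCrv.Rn R n) :
    ocast h (Submodule.Quotient.mk x : MultCrv.Oi R n a) = Submodule.Quotient.mk x := rfl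

theorem ocast_ocast {a b c : ℕ} (h : b ≤ a) (h' : c ≤ b) (x : MultCrv.Oi R n a) :
    ocast h' (ocast h x) = ocast (h'.trans h) x := by
  obtain ⟨x, rfl⟩ := Submodule.Quotient.mk_surjective _ x
  rfl

theorem ocast_self {a : ℕ} (h : a ≤ a) (x : MultCrv.Oi R n a) : ocast h x = x := by
  obtain ⟨x, rfl⟩ := Submodule.Quotient.mk_surjective _ x
  rfl

/-- Multiplication by `z^(i+1)`, from `A/(z^(n-i-1))` into `A`. -/
noncomputable def zmul (i : ℕ) (hi : i < n) :
    MultCrv.Oi R n (n - (i + 1)) →ₗ[MultCrv.Rn R n] MultCrv.Rn R n :=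
  Submodule.liftQ _ (MultCrv.z R n ^ (i + 1) • LinearMap.id) (by
    intro x hx
    obtain ⟨c, rfl⟩ := Ideal.mem_span_singleton.mp hx
    rw [LinearMap.mem_ker, LinearMap.smul_apply, LinearMap.id_apply, smul_eq_mul, ← mul_assoc,
      ← pow_add, z_pow_eq_zero (by omega), zero_mul])

theorem zmul_mk (i : ℕ) (hi : i < n) (x : MultCrv.Rn R n) :
    zmul i hi (Submodule.Quotient.mk x : MultCrv.Oi R n (n - (i + 1))) =
      MultCrv.z R n ^ (i + 1) * x := rfl

theorem zmul_injective (i : ℕ) (hi : i < n) : Function.Injective (zmul (R := R) i hi) := by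
  rw [← LinearMap.ker_eq_bot, LinearMap.ker_eq_bot']
  intro x hx
  obtain ⟨x, rfl⟩ := Submodule.Quotient.mk_surjective _ x
  rw [zmul_mk] at hx
  rw [Submodule.Quotient.mk_eq_zero]
  obtain ⟨p, rfl⟩ := Ideal.Quotient.mk_surjective x
  rw [MultCrv.z, ← map_pow, ← map_mul, Ideal.Quotient.eq_zero_iff_mem, Ideal.mem_span_singleton,
    Polynomial.X_pow_dvd_iff] at hx
  have hdvd : Polynomial.X ^ (n - (i + 1)) ∣ p := by
    rw [Polynomial.X_pow_dvd_iff]
    intro d hd
    have h := hx (i + 1 + d) (by omega)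
    rwa [add_comm (i + 1) d, Polynomial.coeff_X_pow_mul] at h
  obtain ⟨q, rfl⟩ := hdvd
  exact Ideal.mem_span_singleton.mpr ⟨Ideal.Quotient.mk _ q, by rw [map_mul, map_pow]⟩

variable (m : Fin n → ℕ)

/-- The product of the copies of `A`. -/
abbrev F0 (R : Type u) [CommRing R] {n : ℕ} (m : Fin n → ℕ) : Type u :=
  (i : Fin n) → (Fin (m i) → MultCrv.Rn R n)

/-- `Π_i (A/(z^(n-i-1)))^(m i)`. -/
abbrev W (R : Type u) [CommRing R] {n : ℕ} (m : Fin n → ℕ) : Type u :=
  (i : Fin n) → (Fin (m i) → MultCrv.Oi R n (n - (i.1 + 1)))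

/-- The quotient map onto the model. -/
noncomputable def qMap : F0 R m →ₗ[MultCrv.Rn R n]
    ((i : Fin n) → (Fin (m i) → MultCrv.Oi R n (i.1 + 1))) where
  toFun f i l := Submodule.Quotient.mk (f i l)
  map_add' _ _ := rfl
  map_smul' _ _ := rfl

theorem qMap_surjective : Function.Surjective (qMap (R := R) m) := fun w =>
  ⟨fun i l => Classical.choose (Submodule.Quotient.mk_surjective _ (w i l)),
    funext fun i => funext fun l => Classical.choose_spec
      (Submodule.Quotient.mk_surjective _ (w i l))⟩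

theorem exists_of_qMap_eq_zero {v : F0 R m} (h : qMap m v = 0) :
    ∃ w : F0 R m, v = MultCrv.z R n • w := by
  have h' : ∀ (i : Fin n) (l : Fin (m i)), ∃ c, v i l = MultCrv.z R n ^ (i.1 + 1) * c := fun i l =>
    Ideal.mem_span_singleton.mp ((Submodule.Quotient.mk_eq_zero _).mp (congrFun (congrFun h i) l))
  choose c hc using h'
  refine ⟨fun i l => MultCrv.z R n ^ i.1 * c i l, ?_⟩
  funext i l
  rw [hc, pow_succ', mul_assoc]
  rfl

/-- The embedding of `W` into `F0`. -/
noncomputable def wMap : W R m →ₗ[MultCrv.Rn R n] F0 R m where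
  toFun w i l := zmul i.1 i.2 (w i l)
  map_add' a b := by funext i l; exact map_add _ _ _
  map_smul' r a := by funext i l; exact LinearMap.map_smul _ _ _

theorem wMap_injective : Function.Injective (wMap (R := R) m) := fun _ _ h =>
  funext fun i => funext fun l => zmul_injective i.1 i.2 (congrFun (congrFun h i) l)

theorem range_wMap : LinearMap.range (wMap (R := R) m) = LinearMap.ker (qMap m) := by
  ext v
  constructor
  · rintro ⟨w, rfl⟩
    rw [LinearMap.mem_ker]
    funext i l
    obtain ⟨x, hx⟩ := Submodule.Quotient.mk_surjective _ (w i l)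
    change (Submodule.Quotient.mk (zmul i.1 i.2 (w i l)) : MultCrv.Oi R n (i.1 + 1)) = 0
    rw [← hx, zmul_mk]
    exact mk_zpow_self_eq_zero _ _
  · intro h
    have h' : ∀ (i : Fin n) (l : Fin (m i)), ∃ c, v i l = MultCrv.z R n ^ (i.1 + 1) * c :=
      fun i l => Ideal.mem_span_singleton.mp
        ((Submodule.Quotient.mk_eq_zero _).mp (congrFun (congrFun (LinearMap.mem_ker.mp h) i) l))
    choose c hc using h'
    refine ⟨fun i l => Submodule.Quotient.mk (c i l), ?_⟩
    funext i l
    exact (hc i l).symm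

theorem revType_apply (j : Fin n) (h : j.1 + 1 < n) :
    MultCrv.revType n m j = m ⟨n - 2 - j.1, by omega⟩ := dif_pos h

theorem revType_lt (j : Fin n) (l : Fin (MultCrv.revType n m j)) : j.1 + 1 < n := by
  by_contra h
  have h0 : MultCrv.revType n m j = 0 := dif_neg h
  exact absurd l.2 (by omega)

/-- Reindexing, forwards. -/
noncomputable def revFwd : W R m →ₗ[MultCrv.Rn R n]
    ((j : Fin n) → (Fin (MultCrv.revType n m j) → MultCrv.Oi R n (j.1 + 1))) where
  toFun w j l := ocast (have := revType_lt m j l; by simp only; omega)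
    (w ⟨n - 2 - j.1, by omega⟩ (Fin.cast (revType_apply m j (revType_lt m j l)) l))
  map_add' a b := by funext j l; exact map_add _ _ _
  map_smul' r a := by funext j l; exact LinearMap.map_smul _ _ _

/-- Reindexing, backwards. -/
noncomputable def revBwd : ((j : Fin n) → (Fin (MultCrv.revType n m j) → MultCrv.Oi R n (j.1 + 1)))
    →ₗ[MultCrv.Rn R n] W R m where
  toFun v i l := if h : i.1 + 1 < n then
      ocast (by simp only; omega) (v ⟨n - 2 - i.1, by omega⟩ (Fin.cast (by
        rw [revType_apply m _ (by simp only; omega)]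
        exact congrArg m (Fin.ext (by simp only; omega))) l))
    else 0
  map_add' a b := by
    funext i l
    simp only [Pi.add_apply]
    split_ifs
    · exact map_add _ _ _
    · exact (add_zero 0).symm
  map_smul' r a := by
    funext i l
    simp only [Pi.smul_apply, RingHom.id_apply]
    split_ifs
    · exact LinearMap.map_smul _ _ _
    · exact (smul_zero r).symm

theorem W_congr (w : W R m) {i i' : Fin n} (h : i' = i) (l : Fin (m i)) (l' : Fin (m i'))
    (hl : l'.1 = l.1) (hle : n - (i.1 + 1) ≤ n - (i'.1 + 1)) :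
    ocast hle (w i' l') = w i l := by
  subst h
  rw [Fin.ext hl, ocast_self]

theorem rev_congr (v : (j : Fin n) → (Fin (MultCrv.revType n m j) → MultCrv.Oi R n (j.1 + 1)))
    {j j' : Fin n} (h : j' = j) (l : Fin (MultCrv.revType n m j))
    (l' : Fin (MultCrv.revType n m j')) (hl : l'.1 = l.1) (hle : j.1 + 1 ≤ j'.1 + 1) :
    ocast hle (v j' l') = v j l := by
  subst h
  rw [Fin.ext hl, ocast_self]

theorem zero_of_top (x : MultCrv.Oi R n 0) : x = 0 := by
  obtain ⟨x, rfl⟩ := Submodule.Quotient.mk_surjective _ x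
  rw [Submodule.Quotient.mk_eq_zero, pow_zero, Ideal.span_singleton_one]
  exact Submodule.mem_top

theorem revFwd_apply (w : W R m) (j : Fin n) (l : Fin (MultCrv.revType n m j))
    (hle : j.1 + 1 ≤ n - ((⟨n - 2 - j.1, by omega⟩ : Fin n).1 + 1))
    (heq : MultCrv.revType n m j = m ⟨n - 2 - j.1, by omega⟩) :
    revFwd m w j l = ocast hle (w ⟨n - 2 - j.1, by omega⟩ (Fin.cast heq l)) := rfl

theorem revBwd_apply (v : (j : Fin n) → (Fin (MultCrv.revType n m j) → MultCrv.Oi R n (j.1 + 1)))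
    (i : Fin n) (l : Fin (m i)) (h : i.1 + 1 < n)
    (hle : n - (i.1 + 1) ≤ (⟨n - 2 - i.1, by omega⟩ : Fin n).1 + 1)
    (heq : m i = MultCrv.revType n m ⟨n - 2 - i.1, by omega⟩) :
    revBwd m v i l = ocast hle (v ⟨n - 2 - i.1, by omega⟩ (Fin.cast heq l)) := dif_pos h

theorem revBwd_apply_zero (v : (j : Fin n) → (Fin (MultCrv.revType n m j) → MultCrv.Oi R n (j.1 + 1)))
    (i : Fin n) (l : Fin (m i)) (h : ¬ i.1 + 1 < n) : revBwd m v i l = 0 := dif_neg h

theorem revFwd_revBwd (v : (j : Fin n) → (Fin (MultCrv.revType n m j) → MultCrv.Oi R n (j.1 + 1)))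
    (j : Fin n) (l : Fin (MultCrv.revType n m j)) : revFwd m (revBwd m v) j l = v j l := by
  have hj := revType_lt m j l
  have hi : (⟨n - 2 - j.1, by omega⟩ : Fin n).1 + 1 < n :=
    show n - 2 - j.1 + 1 < n by omega
  have heq1 := revType_apply m j hj
  have hjj : (⟨n - 2 - (n - 2 - j.1), by omega⟩ : Fin n) = j :=
    Fin.ext (show n - 2 - (n - 2 - j.1) = j.1 by omega)
  have hle1 : j.1 + 1 ≤ n - (n - 2 - j.1 + 1) := by omega
  have hle2 : n - (n - 2 - j.1 + 1) ≤ n - 2 - (n - 2 - j.1) + 1 := by omega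
  have heq2 : m ⟨n - 2 - j.1, by omega⟩ =
      MultCrv.revType n m ⟨n - 2 - (n - 2 - j.1), by omega⟩ := by
    rw [hjj]
    exact heq1.symm
  rw [revFwd_apply m _ j l hle1 heq1, revBwd_apply m v _ _ hi hle2 heq2, ocast_ocast]
  exact rev_congr m v hjj l (Fin.cast heq2 (Fin.cast heq1 l)) (Eq.refl l.1) _

theorem revBwd_revFwd (w : W R m) (i : Fin n) (l : Fin (m i)) :
    revBwd m (revFwd m w) i l = w i l := by
  by_cases hi : i.1 + 1 < n
  · have hj : (⟨n - 2 - i.1, by omega⟩ : Fin n).1 + 1 < n :=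
      show n - 2 - i.1 + 1 < n by omega
    have hii : (⟨n - 2 - (n - 2 - i.1), by omega⟩ : Fin n) = i :=
      Fin.ext (show n - 2 - (n - 2 - i.1) = i.1 by omega)
    have heq2 := revType_apply m ⟨n - 2 - i.1, by omega⟩ hj
    have heq1 : m i = MultCrv.revType n m ⟨n - 2 - i.1, by omega⟩ := by
      rw [heq2]
      exact congrArg m hii.symm
    have hle1 : n - (i.1 + 1) ≤ n - 2 - i.1 + 1 := by omega
    have hle2 : n - 2 - i.1 + 1 ≤ n - (n - 2 - (n - 2 - i.1) + 1) := by omega
    rw [revBwd_apply m _ i l hi hle1 heq1, revFwd_apply m w _ _ hle2 heq2, ocast_ocast]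
    exact W_congr m w hii l (Fin.cast heq2 (Fin.cast heq1 l)) (Eq.refl l.1) _
  · rw [revBwd_apply_zero m _ i l hi]
    have h0 : n - (i.1 + 1) = 0 := by omega
    have hx : ∀ (a : ℕ), a = 0 → ∀ x : MultCrv.Oi R n a, x = 0 := by
      rintro a rfl x
      exact zero_of_top x
    exact (hx _ h0 (w i l)).symm

/-- The reindexing equivalence. -/
noncomputable def revEquiv : W R m ≃ₗ[MultCrv.Rn R n]
    ((j : Fin n) → (Fin (MultCrv.revType n m j) → MultCrv.Oi R n (j.1 + 1))) :=
  LinearEquiv.ofLinearMap (revFwd m) (revBwd m)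
    (LinearMap.ext fun v => funext fun j => funext fun l => revFwd_revBwd m v j l)
    (LinearMap.ext fun w => funext fun i => funext fun l => revBwd_revFwd m w i l)

theorem nilpotent_nakayama {N : Type u} [AddCommGroup N] [Module (MultCrv.Rn R n) N]
    (S : Submodule (MultCrv.Rn R n) N) (h : ∀ v : N, ∃ w : N, v - MultCrv.z R n • w ∈ S) :
    S = ⊤ := by
  have hk : ∀ k : ℕ, ∀ v : N, ∃ w : N, v - MultCrv.z R n ^ k • w ∈ S := by
    intro k
    induction k with
    | zero => intro v; exact ⟨v, by rw [pow_zero, one_smul, sub_self]; exact zero_mem _⟩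
    | succ k ih =>
      intro v
      obtain ⟨w, hw⟩ := ih v
      obtain ⟨w', hw'⟩ := h w
      refine ⟨w', ?_⟩
      have := add_mem hw (S.smul_mem (MultCrv.z R n ^ k) hw')
      rwa [smul_sub, smul_smul, ← pow_succ, sub_add_sub_cancel] at this
  rw [eq_top_iff]
  intro v _
  obtain ⟨w, hw⟩ := hk n v
  rw [z_pow_eq_zero le_rfl] at hw
  have e : ((0 : MultCrv.Rn R n) • w) = 0 := zero_smul (MultCrv.Rn R n) w
  rwa [e, sub_zero] at hw

theorem isQuasiFreeOfType_ker {M : Type u} [AddCommGroup M] [Module (MultCrv.Rn R n) M]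
    (hM : MultCrv.IsQuasiFreeOfType R n M m) (r : ℕ)
    (φ : (Fin r → MultCrv.Rn R n) →ₗ[MultCrv.Rn R n] M) (hφ : Function.Surjective φ)
    (hφz : ∀ f, φ f ∈ MultCrv.filt R n M 1 →
      f ∈ MultCrv.filt R n (Fin r → MultCrv.Rn R n) 1) :
    MultCrv.IsQuasiFreeOfType R n (LinearMap.ker φ) (MultCrv.revType n m) := by
  obtain ⟨e⟩ := hM
  let e' : M ≃ₗ[MultCrv.Rn R n] ((i : Fin n) → (Fin (m i) → MultCrv.Oi R n (i.1 + 1))) :=
    e.trans (MultCrv.QFModel.equivPi R n m)
  let ψ := e'.toLinearMap.comp φ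
  obtain ⟨θ, hθ⟩ := Module.projective_lifting_property (qMap (R := R) m) ψ (qMap_surjective m)
  have hθ' : ∀ f, qMap m (θ f) = e' (φ f) := fun f => LinearMap.congr_fun hθ f
  have hsurj : Function.Surjective θ := by
    rw [← LinearMap.range_eq_top]
    refine nilpotent_nakayama _ fun v => ?_
    obtain ⟨f, hf⟩ := (e'.surjective.comp hφ) (qMap m v)
    obtain ⟨w, hw⟩ := exists_of_qMap_eq_zero m (v := v - θ f) (by
      rw [map_sub, hθ']
      exact sub_eq_zero_of_eq hf.symm)
    refine ⟨w, ⟨f, ?_⟩⟩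
    rw [← hw, sub_sub_cancel]
  obtain ⟨σ, hσ⟩ := Module.projective_lifting_property θ LinearMap.id hsurj
  have hσ' : ∀ v, θ (σ v) = v := fun v => LinearMap.congr_fun hσ v
  have hinj : Function.Injective θ := by
    rw [← LinearMap.ker_eq_bot, LinearMap.ker_eq_bot']
    intro k hk
    have hstep : ∀ j : ℕ, ∀ k, θ k = 0 → ∃ k', θ k' = 0 ∧ k = MultCrv.z R n ^ j • k' := by
      intro j
      induction j with
      | zero => intro k hk; exact ⟨k, hk, by rw [pow_zero, one_smul]⟩
      | succ j ih =>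
        intro k hk
        obtain ⟨k', hk', rfl⟩ := ih k hk
        have h1 : φ k' ∈ MultCrv.filt R n M 1 := by
          have h0 : φ k' = 0 := e'.injective (by rw [← hθ', hk', map_zero, map_zero])
          rw [h0]
          exact zero_mem _
        obtain ⟨g, hg⟩ := hφz k' h1
        rw [LinearMap.smul_apply, LinearMap.id_apply, pow_one] at hg
        refine ⟨g - σ (θ g), by rw [map_sub, hσ', sub_self], ?_⟩
        have hzg : MultCrv.z R n • θ g = 0 := by rw [← map_smul, hg, hk']
        calc MultCrv.z R n ^ j • k'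
            = MultCrv.z R n ^ j • (MultCrv.z R n • (g - σ (θ g))) := by
              rw [smul_sub (MultCrv.z R n), ← map_smul σ, hzg, map_zero, sub_zero, hg]
          _ = MultCrv.z R n ^ (j + 1) • (g - σ (θ g)) := by
              rw [smul_smul, ← pow_succ]
    obtain ⟨k', -, rfl⟩ := hstep n k hk
    rw [z_pow_eq_zero le_rfl]
    exact zero_smul (MultCrv.Rn R n) k'
  let Θ := LinearEquiv.ofBijective θ ⟨hinj, hsurj⟩
  have hmap : (LinearMap.ker φ).map (Θ : _ →ₗ[MultCrv.Rn R n] F0 R m) =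
      LinearMap.range (wMap (R := R) m) := by
    rw [range_wMap]
    ext v
    obtain ⟨f, rfl⟩ := Θ.surjective v
    rw [Submodule.mem_map]
    constructor
    · rintro ⟨f', hf', hff'⟩
      obtain rfl := Θ.injective hff'
      rw [LinearMap.mem_ker] at hf' ⊢
      change qMap m (θ f') = 0
      rw [hθ', hf', map_zero]
    · intro hv
      refine ⟨f, ?_, rfl⟩
      rw [LinearMap.mem_ker] at hv ⊢
      have := (hθ' f).symm.trans hv
      exact e'.injective (this.trans (map_zero e').symm)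
  exact ⟨(Θ.submoduleMap (LinearMap.ker φ)).trans ((LinearEquiv.ofEq _ _ hmap).trans
    ((LinearEquiv.ofInjective (wMap m) (wMap_injective m)).symm.trans ((revEquiv m).trans
      (MultCrv.QFModel.equivPi R n (MultCrv.revType n m)).symm)))⟩

end Groth.Agent.MultCrvLib
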